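import Mathlib
import Groth.Agent.KRegLib.Closed
import Groth.Agent.Synt29.KoszulSyntomic

/-!
# Regular closed immersions near a point
-/

set_option autoImplicit false
set_option linter.style.haveILetI false
set_option backward.isDefEq.respectTransparency false
set_option backward.isDefEq.respectTransparency.types false

set_option maxHeartbeats 1000000

universe u

open AlgebraicGeometry CategoryTheory RingTheory.Sequence

namespace Groth.Agent.RegNear

variable {X Z : Scheme.{u}} (i : Z ⟶ X) [IsClosedImmersion i] (z : Z)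

/-- The kernel on stalks of a closed immersion is the localized kernel. -/
theorem ker_stalkMap {U : X.Opens} (hU : IsAffineOpen U) (hzU : i z ∈ U) :
    RingHom.ker (i.stalkMap z).hom =
      (RingHom.ker (i.app U).hom).map (X.presheaf.germ U (i z) hzU).hom := by
  have hV : IsAffineOpen (i ⁻¹ᵁ U) := hU.preimage i
  have hs : Function.Surjective (i.app U) := i.app_surjective U hU
  let φ : Γ(X, U) →+* Γ(Z, i ⁻¹ᵁ U) := (i.app U).hom
  letI : Algebra Γ(X, U) (X.presheaf.stalk (i z)) := (X.presheaf.germ U (i z) hzU).hom.toAlgebra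
  letI : Algebra Γ(Z, i ⁻¹ᵁ U) (Z.presheaf.stalk z) := (Z.presheaf.germ (i ⁻¹ᵁ U) z hzU).hom.toAlgebra
  haveI hX : IsLocalization.AtPrime (X.presheaf.stalk (i z)) (hU.primeIdealOf ⟨i z, hzU⟩).asIdeal :=
    hU.isLocalization_stalk ⟨i z, hzU⟩
  haveI hZ : IsLocalization.AtPrime (Z.presheaf.stalk z) (hV.primeIdealOf ⟨z, hzU⟩).asIdeal :=
    hV.isLocalization_stalk ⟨z, hzU⟩
  have hcomap : (hU.primeIdealOf ⟨i z, hzU⟩).asIdeal = (hV.primeIdealOf ⟨z, hzU⟩).asIdeal.comap φ := by
    have h1 := IsAffineOpen.SpecMap_appLE_fromSpec i hU hV le_rfl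
    have h2 : hU.primeIdealOf ⟨i z, hzU⟩ =
        Spec.map (i.appLE U (i ⁻¹ᵁ U) le_rfl) (hV.primeIdealOf ⟨z, hzU⟩) := by
      apply hU.fromSpec.isOpenEmbedding.injective
      rw [hU.fromSpec_primeIdealOf]
      show i z = (Spec.map _ ≫ hU.fromSpec) _
      rw [h1]
      show i z = i (hV.fromSpec _)
      rw [hV.fromSpec_primeIdealOf]
    rw [h2, ← Scheme.Hom.app_eq_appLE]
    rfl
  let f : X.presheaf.stalk (i z) →+* Z.presheaf.stalk z := (i.stalkMap z).hom
  have hf : ∀ a : Γ(X, U), f (algebraMap _ _ a) = algebraMap _ _ (φ a) := fun a =>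
    Scheme.Hom.germ_stalkMap_apply i U z hzU a
  have hM : Submonoid.map φ (hU.primeIdealOf ⟨i z, hzU⟩).asIdeal.primeCompl =
      (hV.primeIdealOf ⟨z, hzU⟩).asIdeal.primeCompl := by
    ext b
    constructor
    · rintro ⟨a, ha, rfl⟩ hb
      exact ha (by rw [hcomap]; exact hb)
    · intro hb
      obtain ⟨a, rfl⟩ := hs b
      exact ⟨a, fun h => hb (by rw [hcomap] at h; exact h), rfl⟩
  have hfm : f = IsLocalization.map (Z.presheaf.stalk z) φ
      (show (hU.primeIdealOf ⟨i z, hzU⟩).asIdeal.primeCompl ≤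
        (hV.primeIdealOf ⟨z, hzU⟩).asIdeal.primeCompl.comap φ from
        Submonoid.map_le_iff_le_comap.1 hM.le) := by
    refine IsLocalization.ringHom_ext (hU.primeIdealOf ⟨i z, hzU⟩).asIdeal.primeCompl (RingHom.ext fun a => ?_)
    rw [RingHom.comp_apply, RingHom.comp_apply, hf, IsLocalization.map_eq]
  have hker' : RingHom.ker f = (RingHom.ker φ).map (algebraMap Γ(X, U) (X.presheaf.stalk (i z))) := by
    rw [hfm]
    exact IsLocalization.ker_map (Z.presheaf.stalk z) φ hM
  exact hker'

/-- **A closed immersion is regular near a point iff its kernel on the stalk is generated by a regular sequence.** -/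
theorem regular_near_iff [IsLocallyNoetherian X] :
    (∃ V : X.Opens, i z ∈ V ∧ Mor2.IsRegularClosedImmersion (i ∣_ V)) ↔
      ∃ rs : List ↑(X.presheaf.stalk (i z)), RingTheory.Sequence.IsRegular ↑(X.presheaf.stalk (i z)) rs ∧
        RingHom.ker (i.stalkMap z).hom = Ideal.ofList rs := by
  constructor
  · rintro ⟨V, hzV, -, h⟩
    obtain ⟨U, hU, hzU, rs, hrs, hker⟩ := h ⟨z, hzV⟩
    let O := V.ι ''ᵁ U
    have hO : IsAffineOpen O := hU.image_of_isOpenImmersion V.ι
    have hzO : i z ∈ O := ⟨(i ∣_ V) ⟨z, hzV⟩, hzU,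
      congrArg (fun t : (i ⁻¹ᵁ V).toScheme ⟶ X => t ⟨z, hzV⟩) (morphismRestrict_ι i V)⟩
    have hk : RingHom.ker (i.app O).hom = (Ideal.ofList rs : Ideal Γ(X, O)) := by
      rw [Scheme.Hom.ker_apply, morphismRestrict_app, CommRingCat.hom_comp] at hker
      refine Eq.trans ?_ hker
      exact (RingHom.ker_comp_of_injective _ (ConcreteCategory.bijective_of_isIso
        (Z.presheaf.map (eqToHom (image_morphismRestrict_preimage i V U)).op)).1).symm
    letI : Algebra Γ(X, O) (X.presheaf.stalk (i z)) := (X.presheaf.germ O (i z) hzO).hom.toAlgebra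
    haveI : IsLocalization.AtPrime (X.presheaf.stalk (i z)) (hO.primeIdealOf ⟨i z, hzO⟩).asIdeal :=
      hO.isLocalization_stalk ⟨i z, hzO⟩
    haveI : Module.Flat Γ(X, O) (X.presheaf.stalk (i z)) :=
      IsLocalization.flat _ (hO.primeIdealOf ⟨i z, hzO⟩).asIdeal.primeCompl
    have hsk : RingHom.ker (i.stalkMap z).hom =
        Ideal.ofList ((show List Γ(X, O) from rs).map (algebraMap Γ(X, O) (X.presheaf.stalk (i z)))) := by
      rw [ker_stalkMap i z hO hzO, hk, ← Ideal.map_ofList]
      rfl
    refine ⟨_, ⟨RingTheory.Sequence.IsWeaklyRegular.of_flat (S := X.presheaf.stalk (i z))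
      (show RingTheory.Sequence.IsWeaklyRegular Γ(X, O) (show List Γ(X, O) from rs) from hrs.toIsWeaklyRegular), ?_⟩, hsk⟩
    rw [← hsk]
    intro htop
    rw [smul_eq_mul, Ideal.mul_top] at htop
    have h1 : (1 : X.presheaf.stalk (i z)) ∈ RingHom.ker (i.stalkMap z).hom := by rw [← htop]; exact Submodule.mem_top
    rw [RingHom.mem_ker, map_one] at h1
    exact one_ne_zero h1
  · rintro ⟨rs, hrs, hker⟩
    obtain ⟨D, hD, hzD, -⟩ := exists_isAffineOpen_mem_and_subset (U := ⊤) (x := i z) trivial
    haveI : IsNoetherianRing Γ(X, D) := IsLocallyNoetherian.component_noetherian ⟨D, hD⟩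
    letI : Algebra Γ(X, D) (X.presheaf.stalk (i z)) := (X.presheaf.germ D (i z) hzD).hom.toAlgebra
    let p := (hD.primeIdealOf ⟨i z, hzD⟩).asIdeal
    haveI : IsLocalization.AtPrime (X.presheaf.stalk (i z)) p := hD.isLocalization_stalk ⟨i z, hzD⟩
    let e : X.presheaf.stalk (i z) ≃ₐ[Γ(X, D)] Localization.AtPrime p := IsLocalization.algEquiv p.primeCompl _ _
    let x : Fin rs.length → Localization.AtPrime p := fun j => e rs[j]
    have hx : List.ofFn x = rs.map e := by
      conv_rhs => rw [← List.ofFn_getElem (xs := rs)]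
      rw [List.map_ofFn]
      rfl
    have hreg : IsWeaklyRegular (Localization.AtPrime p) (List.ofFn x) := by
      rw [hx]
      refine (AddEquiv.isWeaklyRegular_congr (e := e.toRingEquiv.toAddEquiv) (as := rs) (bs := rs.map e) ?_).1
        hrs.toIsWeaklyRegular
      exact List.forall₂_map_right_iff.2 (List.forall₂_same.2 fun x _ y => map_mul e x y)
    have hgen : Ideal.span (Set.range x) = (RingHom.ker (i.app D).hom).map (algebraMap _ (Localization.AtPrime p)) := by
      have h1 : Ideal.ofList (rs.map e.toRingEquiv.toRingHom) =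
          (RingHom.ker (i.app D).hom).map (algebraMap _ (Localization.AtPrime p)) := by
        rw [← Ideal.map_ofList, ← hker, ker_stalkMap i z hD hzD, Ideal.map_map]
        congr 1
        exact RingHom.ext fun a => e.commutes a
      refine Eq.trans ?_ h1
      show _ = Ideal.ofList (rs.map e)
      rw [← hx, Ideal.ofList]
      congr 1
      ext y
      simp
    have hIp : RingHom.ker (i.app D).hom ≤ p := fun a ha => by
      by_contra hap
      have hu := IsLocalization.map_units (X.presheaf.stalk (i z)) (⟨a, hap⟩ : p.primeCompl)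
      have h0 : algebraMap Γ(X, D) (X.presheaf.stalk (i z)) a ∈ RingHom.ker (i.stalkMap z).hom := by
        rw [ker_stalkMap i z hD hzD]; exact Ideal.mem_map_of_mem _ ha
      exact RingHom.ker_ne_top _ (Ideal.eq_top_of_isUnit_mem _ h0 hu)
    obtain ⟨g, hg, rs', hrs', hrsI⟩ :=
      KRegLib.exists_away_isRegular_of_atPrime _ p hIp x hreg hgen
    letI : Algebra Γ(X, D) Γ(X, X.basicOpen g) := (X.presheaf.map (homOfLE (X.basicOpen_le g)).op).hom.toAlgebra
    haveI : IsLocalization.Away g Γ(X, X.basicOpen g) := hD.isLocalization_basicOpen g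
    let e' : Localization.Away g ≃ₐ[Γ(X, D)] Γ(X, X.basicOpen g) :=
      IsLocalization.algEquiv (Submonoid.powers g) _ _
    let V := X.basicOpen g
    have hzg : i z ∈ V := by
      show i z ∈ X.basicOpen g
      rw [← hD.fromSpec_image_basicOpen g]
      exact ⟨hD.primeIdealOf ⟨i z, hzD⟩, hg, hD.fromSpec_primeIdealOf _⟩
    haveI : IsAffine V.toScheme := hD.basicOpen g
    refine ⟨V, hzg, inferInstance, fun z' => ⟨⊤, isAffineOpen_top _, trivial, ?_⟩⟩
    have hker' : RingHom.ker (i.app V).hom = Ideal.ofList (rs'.map e') := by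
      have h3 := (KRegLib.app_basicOpen_props i hD (hD.preimage i) (i.app_surjective D hD) g).2.2
      refine Eq.trans h3 ?_
      rw [show rs'.map e' = rs'.map e'.toRingEquiv.toRingHom from rfl, ← Ideal.map_ofList, hrsI, Ideal.map_map]
      congr 1
      exact (RingHom.ext fun x => (e'.commutes x)).symm
    let t : Γ(X, V) ≃+* Γ(V.toScheme, ⊤) := V.topIso.symm.commRingCatIsoToRingEquiv
    refine ⟨(rs'.map e').map t, ?_, ?_⟩
    · have h1 : IsRegular Γ(X, V) (rs'.map e') := by
        refine (AddEquiv.isRegular_congr (e := e'.toRingEquiv.toAddEquiv) (as := rs') (bs := rs'.map e') ?_).1 hrs'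
        exact List.forall₂_map_right_iff.2 (List.forall₂_same.2 fun x _ y => map_mul e' x y)
      refine (AddEquiv.isRegular_congr (e := t.toAddEquiv) (as := rs'.map e') (bs := (rs'.map e').map t) ?_).1 h1
      exact List.forall₂_map_right_iff.2 (List.forall₂_same.2 fun x _ y => map_mul t x y)
    · rw [Scheme.Hom.ker_apply]
      have h4 : (Ideal.ofList ((rs'.map e').map t.toRingHom) : Ideal Γ(V.toScheme, ⊤)) =
          (RingHom.ker (i.app V).hom).map t.toRingHom := by rw [hker', Ideal.map_ofList]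
      refine Eq.trans ?_ h4.symm
      have hz : (i ⁻¹ᵁ V).ι ''ᵁ ((i ∣_ V) ⁻¹ᵁ ⊤) = i ⁻¹ᵁ V := by
        rw [image_morphismRestrict_preimage, Scheme.Opens.ι_image_top]
      have h5 : ((i ∣_ V).app ⊤).hom.comp t.toRingHom =
          (Z.presheaf.map (eqToHom hz).op).hom.comp (i.app V).hom := by
        refine Eq.trans ?_ (CommRingCat.hom_comp _ _)
        refine congrArg CommRingCat.Hom.hom (?_ : V.topIso.inv ≫ (i ∣_ V).app ⊤ = _)
        rw [morphismRestrict_app]
        simp [Scheme.Opens.topIso_inv, Scheme.Hom.app_eq_appLE]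
      rw [← RingHom.ker_comp_of_injective (i.app V).hom (ConcreteCategory.bijective_of_isIso
        (Z.presheaf.map (eqToHom hz).op)).1, ← h5, ← RingHom.comap_ker]
      exact (Ideal.map_comap_of_surjective t.toRingHom t.surjective _).symm

end Groth.Agent.RegNear
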