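import Mathlib
import Groth.Prelude.Def_RegImm
import Groth.Agent.KRegLib.Closed
import Groth.Agent.KRegLib.Mor
import Groth.Agent.Synt29.KoszulSyntomic

/-!
# Immersions which are regular at a point: stalk criterion
-/

set_option autoImplicit false
set_option linter.style.haveILetI false
set_option backward.isDefEq.respectTransparency false
set_option backward.isDefEq.respectTransparency.types false

set_option maxHeartbeats 1000000

universe u

open AlgebraicGeometry CategoryTheory RingTheory.Sequence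

namespace Groth.Agent.RegNear

variable {X Z : Scheme.{u}} (i : Z ⟶ X) (z : Z)

/-- The kernel on stalks of a closed immersion is the localized kernel. -/
theorem ker_stalkMap_of_surjective {U : X.Opens} (hU : IsAffineOpen U) (hV : IsAffineOpen (i ⁻¹ᵁ U))
    (hs : Function.Surjective (i.app U)) (hzU : i z ∈ U) :
    RingHom.ker (i.stalkMap z).hom =
      (RingHom.ker (i.app U).hom).map (X.presheaf.germ U (i z) hzU).hom := by
  let φ : Γ(X, U) →+* Γ(Z, i ⁻¹ᵁ U) := (i.app U).hom
  letI : Algebra Γ(X, U) (X.presheaf.stalk (i z)) := (X.presheaf.germ U (i z) hzU).hom.toAlgebra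
  letI : Algebra Γ(Z, i ⁻¹ᵁ U) (Z.presheaf.stalk z) := (Z.presheaf.germ (i ⁻¹ᵁ U) z hzU).hom.toAlgebra
  haveI hX : IsLocalization.AtPrime (X.presheaf.stalk (i z)) (hU.primeIdealOf ⟨i z, hzU⟩).asIdeal :=
    hU.isLocalization_stalk ⟨i z, hzU⟩
  haveI hZ : IsLocalization.AtPrime (Z.presheaf.stalk z) (hV.primeIdealOf ⟨z, hzU⟩).asIdeal :=
    hV.isLocalization_stalk ⟨z, hzU⟩
  have hcomap : (hU.primeIdealOf ⟨i z, hzU⟩).asIdeal = (hV.primeIdealOf ⟨z, hzU⟩).asIdeal.comap φ := by
    have h1 := IsAffineOpen.SpecMap_appLE_fromSpec i hU hV le_rfl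
    have h2 : hU.primeIdealOf ⟨i z, hzU⟩ =
        Spec.map (i.appLE U (i ⁻¹ᵁ U) le_rfl) (hV.primeIdealOf ⟨z, hzU⟩) := by
      apply hU.fromSpec.isOpenEmbedding.injective
      rw [hU.fromSpec_primeIdealOf]
      show i z = (Spec.map _ ≫ hU.fromSpec) _
      rw [h1]
      show i z = i (hV.fromSpec _)
      rw [hV.fromSpec_primeIdealOf]
    rw [h2, ← Scheme.Hom.app_eq_appLE]
    rfl
  let f : X.presheaf.stalk (i z) →+* Z.presheaf.stalk z := (i.stalkMap z).hom
  have hf : ∀ a : Γ(X, U), f (algebraMap _ _ a) = algebraMap _ _ (φ a) := fun a =>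
    Scheme.Hom.germ_stalkMap_apply i U z hzU a
  have hM : Submonoid.map φ (hU.primeIdealOf ⟨i z, hzU⟩).asIdeal.primeCompl =
      (hV.primeIdealOf ⟨z, hzU⟩).asIdeal.primeCompl := by
    ext b
    constructor
    · rintro ⟨a, ha, rfl⟩ hb
      exact ha (by rw [hcomap]; exact hb)
    · intro hb
      obtain ⟨a, rfl⟩ := hs b
      exact ⟨a, fun h => hb (by rw [hcomap] at h; exact h), rfl⟩
  have hfm : f = IsLocalization.map (Z.presheaf.stalk z) φ
      (show (hU.primeIdealOf ⟨i z, hzU⟩).asIdeal.primeCompl ≤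
        (hV.primeIdealOf ⟨z, hzU⟩).asIdeal.primeCompl.comap φ from
        Submonoid.map_le_iff_le_comap.1 hM.le) := by
    refine IsLocalization.ringHom_ext (hU.primeIdealOf ⟨i z, hzU⟩).asIdeal.primeCompl (RingHom.ext fun a => ?_)
    rw [RingHom.comp_apply, RingHom.comp_apply, hf, IsLocalization.map_eq]
  have hker' : RingHom.ker f = (RingHom.ker φ).map (algebraMap Γ(X, U) (X.presheaf.stalk (i z))) := by
    rw [hfm]
    exact IsLocalization.ker_map (Z.presheaf.stalk z) φ hM
  exact hker'

/-- An immersion is regular at a point iff the kernel on the stalk is generated by a regular sequence. -/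
theorem regularImmersionAt_of_stalk [IsImmersion i] [IsLocallyNoetherian X]
    (rs : List ↑(X.presheaf.stalk (i z))) (hrs : IsWeaklyRegular ↑(X.presheaf.stalk (i z)) rs)
    (hker : RingHom.ker (i.stalkMap z).hom = Ideal.ofList rs) :
    RegImm.IsRegularImmersionAt .regular i z := by
  obtain ⟨D, hD, hzD, -, hci⟩ := KRegLib.exists_affine_isClosedImmersion_restrict i z ⊤ trivial
  haveI := hci
  obtain ⟨hD', hDs⟩ := Synt29.surjective_app_of_isClosedImmersion_restrict i D hD
  haveI : IsNoetherianRing Γ(X, D) := IsLocallyNoetherian.component_noetherian ⟨D, hD⟩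
  letI : Algebra Γ(X, D) (X.presheaf.stalk (i z)) := (X.presheaf.germ D (i z) hzD).hom.toAlgebra
  let p := (hD.primeIdealOf ⟨i z, hzD⟩).asIdeal
  haveI : IsLocalization.AtPrime (X.presheaf.stalk (i z)) p := hD.isLocalization_stalk ⟨i z, hzD⟩
  let e : X.presheaf.stalk (i z) ≃ₐ[Γ(X, D)] Localization.AtPrime p := IsLocalization.algEquiv p.primeCompl _ _
  let x : Fin rs.length → Localization.AtPrime p := fun j => e rs[j]
  have hx : List.ofFn x = rs.map e := by
    conv_rhs => rw [← List.ofFn_getElem (xs := rs)]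
    rw [List.map_ofFn]
    rfl
  have hreg : IsWeaklyRegular (Localization.AtPrime p) (List.ofFn x) := by
    rw [hx]
    refine (AddEquiv.isWeaklyRegular_congr (e := e.toRingEquiv.toAddEquiv) (as := rs) (bs := rs.map e) ?_).1 hrs
    exact List.forall₂_map_right_iff.2 (List.forall₂_same.2 fun x _ y => map_mul e x y)
  have hstalk := ker_stalkMap_of_surjective i z hD hD' hDs hzD
  have hgen : Ideal.span (Set.range x) = (RingHom.ker (i.app D).hom).map (algebraMap _ (Localization.AtPrime p)) := by
    have h1 : Ideal.ofList (rs.map e.toRingEquiv.toRingHom) =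
        (RingHom.ker (i.app D).hom).map (algebraMap _ (Localization.AtPrime p)) := by
      rw [← Ideal.map_ofList, ← hker, hstalk, Ideal.map_map]
      congr 1
      exact RingHom.ext fun a => e.commutes a
    refine Eq.trans ?_ h1
    show _ = Ideal.ofList (rs.map e)
    rw [← hx, Ideal.ofList]
    congr 1
    ext y
    simp
  have hIp : RingHom.ker (i.app D).hom ≤ p := fun a ha => by
    by_contra hap
    have hu := IsLocalization.map_units (X.presheaf.stalk (i z)) (⟨a, hap⟩ : p.primeCompl)
    have h0 : algebraMap Γ(X, D) (X.presheaf.stalk (i z)) a ∈ RingHom.ker (i.stalkMap z).hom := by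
      rw [hstalk]; exact Ideal.mem_map_of_mem _ ha
    exact RingHom.ker_ne_top _ (Ideal.eq_top_of_isUnit_mem _ h0 hu)
  obtain ⟨g, hg, rs', hrs', hrsI⟩ :=
    KRegLib.exists_away_isRegular_of_atPrime _ p hIp x hreg hgen
  letI : Algebra Γ(X, D) Γ(X, X.basicOpen g) := (X.presheaf.map (homOfLE (X.basicOpen_le g)).op).hom.toAlgebra
  haveI : IsLocalization.Away g Γ(X, X.basicOpen g) := hD.isLocalization_basicOpen g
  let e' : Localization.Away g ≃ₐ[Γ(X, D)] Γ(X, X.basicOpen g) :=
    IsLocalization.algEquiv (Submonoid.powers g) _ _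
  have hzg : i z ∈ X.basicOpen g := by
    rw [← SetLike.mem_coe, ← hD.fromSpec_image_basicOpen g]
    exact ⟨hD.primeIdealOf ⟨i z, hzD⟩, hg, hD.fromSpec_primeIdealOf _⟩
  refine ⟨⟨X.basicOpen g, hD.basicOpen g⟩, hzg,
    KRegLib.isClosedImmersion_restrict_of_le i (X.basicOpen_le g), rs'.map e', ?_, ?_⟩
  · refine (AddEquiv.isRegular_congr (e := e'.toRingEquiv.toAddEquiv) (as := rs') (bs := rs'.map e') ?_).1 hrs'
    exact List.forall₂_map_right_iff.2 (List.forall₂_same.2 fun x _ y => map_mul e' x y)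
  · refine Eq.trans (KRegLib.app_basicOpen_props i hD hD' hDs g).2.2 ?_
    rw [show rs'.map e' = rs'.map e'.toRingEquiv.toRingHom from rfl, ← Ideal.map_ofList, hrsI, Ideal.map_map]
    congr 1
    exact (RingHom.ext fun x => (e'.commutes x)).symm

end Groth.Agent.RegNear
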